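import Cfsg.Agent.H813.HT.A1

/-!
# The centraliser of a non-central involution in a group of type `4 ∘ 2^(1+4)` (TEAM HT-E, task D1; helper137)
-/

set_option autoImplicit false

open scoped commutatorElement

namespace Cfsg.Agent.H137.HT

open Cfsg.Agent.H662.HT Cfsg.Agent.H813.HT Subgroup

universe u v

variable {a : ℕ} {N : Type u} {V : Type v} [Group N] [AddCommGroup V] [DistribMulAction N V]

theorem sym_neg (H : Sym 2 a N V) {c : N} (hc : c ∈ center N) (h2 : c ^ 2 = 1) (h1 : c ≠ 1) (v : V) : c • v = -v := by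
  have h3 : c • (v + c • v) = v + c • v := by
    rw [smul_add, smul_smul, ← pow_two, h2, one_smul, add_comm]
  exact eq_neg_of_add_eq_zero_right (H.semi c hc h1 _ h3)

theorem sym_unique (H : Sym 2 a N V) {c d : N} (hc : c ∈ center N) (hc2 : c ^ 2 = 1) (hc1 : c ≠ 1)
    (hd : d ∈ center N) (hd2 : d ^ 2 = 1) (hd1 : d ≠ 1) : c = d := by
  have h1 : c * d = 1 := H.faithful fun v => by
    rw [mul_smul, sym_neg H hd hd2 hd1, smul_neg, sym_neg H hc hc2 hc1, neg_neg]
  rw [pow_two] at hd2
  calc c = c * (d * d) := by rw [hd2, mul_one]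
    _ = d := by rw [← mul_assoc, h1, one_mul]

/-- the product of two elements not commuting with `z` commutes with `z` -/
theorem sym_mul (H : Sym 2 a N V) {x y z : N} (h1 : x * z ≠ z * x) (h2 : y * z ≠ z * y) :
    (x * y) * z = z * (x * y) := by
  have h1' : ⁅x, z⁆ ≠ 1 := fun h => h1 (commutatorElement_eq_one_iff_mul_comm.1 h)
  have h2' : ⁅y, z⁆ ≠ 1 := fun h => h2 (commutatorElement_eq_one_iff_mul_comm.1 h)
  rw [← commutatorElement_eq_one_iff_mul_comm, H.comm_mul_left,
    sym_unique H (H.comm x z) (H.comm_pow x z) h1' (H.comm y z) (H.comm_pow y z) h2', ← pow_two, H.comm_pow]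

/-- the subgroup `{1, x, y, x y}` -/
def klein {x y : N} (hx : x * x = 1) (hy : y * y = 1) (hxy : x * y = y * x) : Subgroup N where
  carrier := {g | g = 1 ∨ g = x ∨ g = y ∨ g = x * y}
  one_mem' := Or.inl rfl
  mul_mem' := by
    have hyx : y * (x * y) = x := by rw [← mul_assoc, ← hxy, mul_assoc, hy, mul_one]
    have hxx : x * (x * y) = y := by rw [← mul_assoc, hx, one_mul]
    have h1 : x * y * x = y := by rw [mul_assoc, ← hxy, hxx]
    have h2 : x * y * y = x := by rw [mul_assoc, hy, mul_one]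
    have h3 : x * y * (x * y) = 1 := by rw [← mul_assoc, h1, hy]
    rintro g h (rfl | rfl | rfl | rfl) (rfl | rfl | rfl | rfl) <;>
      simp only [Set.mem_ofPred_eq, one_mul, mul_one, hx, hy, hyx, hxx, h1, h2, h3, ← hxy, true_or, or_true]
  inv_mem' := by
    have hx' : x⁻¹ = x := inv_eq_of_mul_eq_one_left hx
    have hy' : y⁻¹ = y := inv_eq_of_mul_eq_one_left hy
    rintro g (rfl | rfl | rfl | rfl)
    · exact Or.inl inv_one
    · exact Or.inr (Or.inl hx')
    · exact Or.inr (Or.inr (Or.inl hy'))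
    · exact Or.inr (Or.inr (Or.inr (by rw [mul_inv_rev, hx', hy', hxy])))

theorem mem_klein {x y : N} (hx : x * x = 1) (hy : y * y = 1) (hxy : x * y = y * x) {g : N} :
    g ∈ klein hx hy hxy ↔ g = 1 ∨ g = x ∨ g = y ∨ g = x * y := Iff.rfl

theorem mem_two {T : N} (hT : T * T = 1) {g : N} : g ∈ zpowers T ↔ g = 1 ∨ g = T := by
  constructor
  · rintro ⟨k, rfl⟩
    change T ^ k = 1 ∨ T ^ k = T
    rcases Int.even_or_odd' k with ⟨m, rfl | rfl⟩
    · left; rw [zpow_mul, zpow_two, hT, one_zpow]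
    · right; rw [zpow_add, zpow_mul, zpow_two, hT, one_zpow, one_mul, zpow_one]
  · rintro (rfl | rfl)
    · exact one_mem _
    · exact mem_zpowers _

theorem exists_three (H : Sym 2 2 N V) (hF : Full 2 N) (hz : Nat.card (center N) = 4) {T : N} (hT : T * T = 1)
    (hTc : T ∉ center N) :
    ∃ x : Fin 3 → N, (∀ k, x k * T = T * x k) ∧ (∀ k, x k * x k = 1) ∧ (∀ j k, j ≠ k → x j * x k ≠ x k * x j) ∧
      ∀ y, y * T = T * y → ∃ z ∈ center N, y = z ∨ y = T * z ∨ (∃ k, y = x k * z) ∨ ∃ k, y = x k * (T * z) := by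
  classical
  have hfin := H.fin
  have hT1 : T ≠ 1 := fun h => hTc (h ▸ one_mem _)
  have hcN : Nat.card N = 64 := by rw [H.card, hz]; norm_num
  -- the centraliser of `T`
  have hS1 : zpowers T ⊓ center N = ⊥ := by
    rw [eq_bot_iff]
    rintro g ⟨hg, hgc⟩
    rcases (mem_two hT).1 hg with rfl | rfl
    · exact one_mem _
    · exact absurd hgc hTc
  have hc1 : Nat.card (zpowers T) = 2 := by
    rw [Nat.card_zpowers]
    exact orderOf_eq_prime (by rw [pow_two, hT]) hT1
  have hC1 : Nat.card (centralizer (zpowers T : Set N)) = 32 := by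
    have := Sym_card_cen H hS1
    rw [hc1, hcN] at this
    omega
  have hm1 : ∀ y, y ∈ centralizer (zpowers T : Set N) ↔ y * T = T * y := by
    intro y
    rw [mem_centralizer_iff]
    constructor
    · intro h; exact (h T (mem_zpowers T)).symm
    · rintro h g hg
      rcases (mem_two hT).1 hg with rfl | rfl
      · rw [one_mul, mul_one]
      · exact h.symm
  -- `x0`
  obtain ⟨x0', hx0', h0z, h0t⟩ : ∃ x : N, x * T = T * x ∧ x ∉ center N ∧ T * x ∉ center N := by
    by_contra hcon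
    push Not at hcon
    have h1 : (centralizer (zpowers T : Set N) : Set N) ⊆ (center N : Set N) ∪ (fun g => T * g) '' (center N : Set N) := by
      intro y hy
      have hy' := (hm1 y).1 hy
      by_cases h2 : y ∈ center N
      · exact Or.inl h2
      · exact Or.inr ⟨T * y, hcon y hy' h2, by change T * (T * y) = y; rw [← mul_assoc, hT, one_mul]⟩
    have h2 := Set.ncard_le_ncard h1 (Set.toFinite _)
    have h3 := Set.ncard_union_le (center N : Set N) ((fun g => T * g) '' (center N : Set N))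
    have h4 := Set.ncard_image_le (f := fun g => T * g) (s := (center N : Set N)) (Set.toFinite _)
    have h5 : (center N : Set N).ncard = 4 := hz
    have h6 : (centralizer (zpowers T : Set N) : Set N).ncard = 32 := hC1
    omega
  obtain ⟨c0, hc0, hx0s⟩ := hF x0'
  obtain ⟨x0, hx0⟩ : ∃ x0, x0 = x0' * c0 := ⟨_, rfl⟩
  have hx0T : x0 * T = T * x0 := by
    rw [hx0, mul_assoc, ← mem_center_iff.1 hc0 T, ← mul_assoc, hx0', mul_assoc]
  have hx0c : x0 ∉ center N := by
    intro h
    exact h0z (by rw [← mul_inv_cancel_right x0' c0, ← hx0]; exact mul_mem h (inv_mem hc0))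
  have hx0t : T * x0 ∉ center N := by
    intro h
    exact h0t (by rw [← mul_inv_cancel_right x0' c0, ← hx0, ← mul_assoc]; exact mul_mem h (inv_mem hc0))
  have hx02 : x0 * x0 = 1 := by rw [← pow_two, hx0, hx0s]
  -- the Klein group
  have hS2 : klein hT hx02 hx0T.symm ⊓ center N = ⊥ := by
    rw [eq_bot_iff]
    rintro g ⟨hg, hgc⟩
    rcases hg with rfl | rfl | rfl | rfl
    · exact one_mem _
    · exact absurd hgc hTc
    · exact absurd hgc hx0c
    · exact absurd hgc hx0t
  have hcS2 : Nat.card (klein hT hx02 hx0T.symm) = 4 := by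
    have h1 : (klein hT hx02 hx0T.symm : Set N) = (({1, T, x0, T * x0} : Finset N) : Set N) := by
      ext g
      simp [klein]
    have h2 : x0 ≠ 1 := fun h => hx0c (h ▸ one_mem _)
    have h3 : T * x0 ≠ 1 := fun h => hx0t (h ▸ one_mem _)
    have h4 : T ≠ x0 := by
      rintro rfl
      exact h3 hT
    change Nat.card (klein hT hx02 hx0T.symm : Set N) = 4
    rw [h1, Nat.card_coe_set_eq, Set.ncard_coe_finset]
    rw [Finset.card_insert_of_notMem, Finset.card_insert_of_notMem, Finset.card_pair]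
    · intro h
      exact hT1 (mul_eq_right.1 h.symm)
    · simp only [Finset.mem_insert, Finset.mem_singleton, not_or]
      exact ⟨h4, fun h => h2 (mul_eq_left.1 h.symm)⟩
    · simp only [Finset.mem_insert, Finset.mem_singleton, not_or]
      exact ⟨hT1.symm, h2.symm, h3.symm⟩
  have hC2 : Nat.card (centralizer (klein hT hx02 hx0T.symm : Set N)) = 16 := by
    have := Sym_card_cen H hS2
    rw [hcS2, hcN] at this
    omega
  have hm2 : ∀ y, y ∈ centralizer (klein hT hx02 hx0T.symm : Set N) ↔ y * T = T * y ∧ y * x0 = x0 * y := by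
    intro y
    rw [mem_centralizer_iff]
    constructor
    · intro h; exact ⟨(h T (Or.inr (Or.inl rfl))).symm, (h x0 (Or.inr (Or.inr (Or.inl rfl)))).symm⟩
    · rintro ⟨h, h'⟩ g (rfl | rfl | rfl | rfl)
      · rw [one_mul, mul_one]
      · exact h.symm
      · exact h'.symm
      · rw [← mul_assoc, h, mul_assoc, mul_assoc, h']
  -- `x1`
  obtain ⟨x1', hx1', h10⟩ : ∃ x : N, x * T = T * x ∧ x * x0 ≠ x0 * x := by
    by_contra hcon
    push Not at hcon
    have h1 : centralizer (zpowers T : Set N) ≤ centralizer (klein hT hx02 hx0T.symm : Set N) := by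
      intro y hy
      exact (hm2 y).2 ⟨(hm1 y).1 hy, hcon y ((hm1 y).1 hy)⟩
    have h2 := Subgroup.card_le_of_le h1
    omega
  obtain ⟨c1, hc1', hx1s⟩ := hF x1'
  obtain ⟨x1, hx1⟩ : ∃ x1, x1 = x1' * c1 := ⟨_, rfl⟩
  have hx1T : x1 * T = T * x1 := by
    rw [hx1, mul_assoc, ← mem_center_iff.1 hc1' T, ← mul_assoc, hx1', mul_assoc]
  have hx10 : x1 * x0 ≠ x0 * x1 := by
    intro h
    rw [hx1, mul_assoc, ← mem_center_iff.1 hc1' x0, ← mul_assoc, ← mul_assoc] at h
    exact h10 (mul_right_cancel h)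
  have hx12 : x1 * x1 = 1 := by rw [← pow_two, hx1, hx1s]
  -- `x2`
  obtain ⟨c2, hc2, hx2s⟩ := hF (x0 * x1)
  obtain ⟨x2, hx2⟩ : ∃ x2, x2 = x0 * x1 * c2 := ⟨_, rfl⟩
  have hx2T : x2 * T = T * x2 := by
    rw [hx2, mul_assoc, ← mem_center_iff.1 hc2 T, ← mul_assoc, mul_assoc x0, hx1T, ← mul_assoc, hx0T, mul_assoc,
      mul_assoc, mul_assoc]
  have hx22 : x2 * x2 = 1 := by rw [← pow_two, hx2, hx2s]
  have hx20 : x2 * x0 ≠ x0 * x2 := by
    intro h
    rw [hx2, mul_assoc, ← mem_center_iff.1 hc2 x0, ← mul_assoc, ← mul_assoc] at h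
    have h3 := mul_right_cancel h
    rw [mul_assoc] at h3
    exact hx10 (mul_left_cancel h3)
  have hx21 : x2 * x1 ≠ x1 * x2 := by
    intro h
    rw [hx2, mul_assoc, ← mem_center_iff.1 hc2 x1, ← mul_assoc, ← mul_assoc] at h
    have h3 := mul_right_cancel h
    rw [← mul_assoc] at h3
    exact hx10 (mul_right_cancel h3).symm
  -- the elements of the centraliser of the Klein group
  have hmem : ∀ y, y * T = T * y → y * x0 = x0 * y → ∃ s ∈ klein hT hx02 hx0T.symm, ∃ z ∈ center N, y = s * z := by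
    let f : klein hT hx02 hx0T.symm × center N → centralizer (klein hT hx02 hx0T.symm : Set N) := fun p => ⟨p.1 * p.2, by
      rw [mem_centralizer_iff]
      intro x hx
      have h3 : x * p.1 = p.1 * x := H.commS hS2 hx p.1.2
      have h4 : x * (p.2 : N) = p.2 * x := mem_center_iff.1 p.2.2 x
      rw [← mul_assoc, h3, mul_assoc, h4, mul_assoc]⟩
    have hf : Function.Injective f := by
      rintro ⟨x, c⟩ ⟨y, d⟩ h
      have h3 : (x : N) * c = y * d := congrArg Subtype.val h
      have h4 : (y : N)⁻¹ * x = d * (c : N)⁻¹ := by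
        rw [inv_mul_eq_iff_eq_mul, ← mul_assoc, eq_mul_inv_iff_mul_eq, h3]
      have h5 : (y : N)⁻¹ * x ∈ klein hT hx02 hx0T.symm ⊓ center N :=
        ⟨Subgroup.mul_mem _ (Subgroup.inv_mem _ y.2) x.2, by
          rw [h4]
          exact (center N).mul_mem d.2 ((center N).inv_mem c.2)⟩
      rw [hS2, mem_bot] at h5
      rw [h5] at h4
      have h6 : y = x := Subtype.ext (inv_mul_eq_one.1 h5)
      have h7 : d = c := Subtype.ext (mul_inv_eq_one.1 h4.symm)
      rw [h6, h7]
    have hf2 : Function.Bijective f := hf.bijective_of_nat_card_le (by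
      rw [Nat.card_prod, hC2, hcS2, hz])
    intro y h1 h2
    obtain ⟨⟨s, z⟩, h⟩ := hf2.2 ⟨y, (hm2 y).2 ⟨h1, h2⟩⟩
    exact ⟨s, s.2, z, z.2, (congrArg Subtype.val h).symm⟩
  refine ⟨![x0, x1, x2], ?_, ?_, ?_, ?_⟩
  · intro k; fin_cases k
    · exact hx0T
    · exact hx1T
    · exact hx2T
  · intro k; fin_cases k
    · exact hx02
    · exact hx12
    · exact hx22
  · intro j k hjk
    fin_cases j <;> fin_cases k
    · exact absurd rfl hjk
    · exact hx10.symm
    · exact hx20.symm
    · exact hx10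
    · exact absurd rfl hjk
    · exact hx21.symm
    · exact hx20
    · exact hx21
    · exact absurd rfl hjk
  · intro y hy
    by_cases h0 : y * x0 = x0 * y
    · obtain ⟨s, hs, z, hz, rfl⟩ := hmem y hy h0
      refine ⟨z, hz, ?_⟩
      rcases hs with rfl | rfl | rfl | rfl
      · exact Or.inl (one_mul z)
      · exact Or.inr (Or.inl rfl)
      · exact Or.inr (Or.inr (Or.inl ⟨0, rfl⟩))
      · exact Or.inr (Or.inr (Or.inr ⟨0, by
          change T * x0 * z = x0 * (T * z)
          rw [← hx0T, mul_assoc]⟩))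
    · have h1 : (y * x1) * x0 = x0 * (y * x1) := sym_mul H h0 hx10
      have h2 : (y * x1) * T = T * (y * x1) := by rw [mul_assoc, hx1T, ← mul_assoc, hy, mul_assoc]
      obtain ⟨s, hs, z, hz, h3⟩ := hmem _ h2 h1
      have h4 : y = s * x1 * z := by
        calc y = y * x1 * x1 := by rw [mul_assoc, hx12, mul_one]
          _ = s * x1 * z := by rw [h3, mul_assoc, ← mem_center_iff.1 hz x1, mul_assoc]
      have h5 : x0 * x1 = x2 * c2⁻¹ := by rw [hx2, mul_inv_cancel_right]
      rcases hs with rfl | rfl | rfl | rfl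
      · exact ⟨z, hz, Or.inr (Or.inr (Or.inl ⟨1, by rw [h4, one_mul]; rfl⟩))⟩
      · exact ⟨z, hz, Or.inr (Or.inr (Or.inr ⟨1, by
          change y = x1 * (s * z)
          rw [h4, ← hx1T, mul_assoc]⟩))⟩
      · refine ⟨c2⁻¹ * z, mul_mem (inv_mem hc2) hz, Or.inr (Or.inr (Or.inl ⟨2, ?_⟩))⟩
        change y = x2 * (c2⁻¹ * z)
        rw [h4, h5, mul_assoc]
      · refine ⟨c2⁻¹ * z, mul_mem (inv_mem hc2) hz, Or.inr (Or.inr (Or.inr ⟨2, ?_⟩))⟩
        change y = x2 * (T * (c2⁻¹ * z))
        rw [h4, mul_assoc T, h5, ← mul_assoc, ← hx2T, mul_assoc, mul_assoc]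

end Cfsg.Agent.H137.HT
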