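import Cfsg.Agent.H137.HT.Tri
import Cfsg.Agent.H137.HT.Three

/-!
# The exceptional case `17 ^ 4`, first part (S3540 / S3577, TEAM HT-E, task D1; helper137)
-/

set_option autoImplicit false
set_option linter.unusedSectionVars false

open scoped commutatorElement

namespace Cfsg.Agent.H137.HT

open Cfsg.Agent.H828.HT Cfsg.Agent.H662.HT Equiv

universe u

section key

variable {p : ℕ} [Fact p.Prime] {V : Type u} [AddCommGroup V] [Module (ZMod p) V]

/-- the stabiliser of a vector of `M` and the group induced on `M` -/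
theorem card_ker_mul {G : Subgroup (V ≃ₗ[ZMod p] V)} {M : Submodule (ZMod p) V} (v : M)
    (hst : ∀ g ∈ G, g (v : V) = v → ∀ w, w ∈ M ↔ g w ∈ M) :
    Nat.card (res G M).ker * Nat.card (MulAction.stabilizer (rs G M) v) =
      Nat.card (MulAction.stabilizer G (v : V)) := by
  let S : Subgroup (stb G M) :=
    (MulAction.stabilizer (rs G M) v).comap (res G M).rangeRestrict
  have hS1 : Nat.card S = Nat.card (MulAction.stabilizer G (v : V)) := by
    refine Nat.card_congr ⟨fun g => ⟨⟨g.1.1, g.1.2.1⟩, ?_⟩, fun g => ⟨⟨g.1.1, g.1.2,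
      hst g.1.1 g.1.2 g.2⟩, ?_⟩, ?_, ?_⟩
    · have := g.2
      exact congrArg Subtype.val (show res G M g.1 v = v from this)
    · exact Subtype.ext g.2
    · intro g; rfl
    · intro g; rfl
  have hS2 : (res G M).rangeRestrict.ker ≤ S := by
    intro g hg
    change (res G M).rangeRestrict g ∈ MulAction.stabilizer (rs G M) v
    rw [(MonoidHom.mem_ker).1 hg]
    exact one_mem _
  have hS3 : S.map (res G M).rangeRestrict = MulAction.stabilizer (rs G M) v :=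
    Subgroup.map_comap_eq_self_of_surjective (res G M).rangeRestrict_surjective _
  have h6 : Nat.card (MulAction.stabilizer (rs G M) v) =
      Nat.card (S.map (res G M).rangeRestrict) :=
    (congrArg (fun X : Subgroup (rs G M) => Nat.card X) hS3).symm
  rw [← hS1, h6, ← MonoidHom.ker_rangeRestrict]
  have h4 := Subgroup.card_mul_index
    (((res G M).rangeRestrict.ker).subgroupOf S)
  rw [Nat.card_congr (Subgroup.subgroupOfEquivOfLe hS2).toEquiv] at h4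
  rw [← h4]
  have e := QuotientGroup.quotientKerEquivRange ((res G M).rangeRestrict.comp S.subtype)
  have e1 : ((res G M).rangeRestrict.comp S.subtype).range =
      S.map (res G M).rangeRestrict := by
    rw [MonoidHom.range_comp, Subgroup.range_subtype]
  have e2 : ((res G M).rangeRestrict.comp S.subtype).ker =
      ((res G M).rangeRestrict.ker).subgroupOf S := by
    ext x; rfl
  have h5 : Nat.card (S.map (res G M).rangeRestrict) =
      (((res G M).rangeRestrict.ker).subgroupOf S).index := by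
    rw [← e1, Subgroup.index, ← e2]
    exact (Nat.card_congr e.toEquiv).symm
  rw [h5]

end key

variable {V : Type u} [AddCommGroup V] [Fact (Nat.Prime 17)] [Module (ZMod 17) V]

/-- the data attached to a non-central involution `t` of `N` -/
structure Dat (N : Subgroup (V ≃ₗ[ZMod 17] V)) (t : V ≃ₗ[ZMod 17] V) (x : Fin 3 → (V ≃ₗ[ZMod 17] V)) : Prop where
  mem : ∀ k, x k ∈ N
  comm : ∀ k v, x k (t v) = t (x k v)
  tsq : ∀ v, t (t v) = v
  sq : ∀ k v, x k (x k v) = v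
  anti : ∀ j k, j ≠ k → ∀ v, x j (x k v) = -(x k (x j v))
  cen : ∀ y ∈ N, (∀ v, y (t v) = t (y v)) → ∃ c : ZMod 17, c ≠ 0 ∧
    ((∀ v, y v = c • v) ∨ (∀ v, y v = c • t v) ∨ (∃ k, ∀ v, y v = c • x k v) ∨ ∃ k, ∀ v, y v = c • x k (t v))
  sgn : ∀ y ∈ N, ∀ z ∈ N, (∀ v, y (z v) = z (y v)) ∨ (∀ v, y (z v) = -(z (y v)))
  card : Nat.card (fx t) = 17 ^ 2

theorem mem_iff_of_comm {t g : V ≃ₗ[ZMod 17] V} (h : ∀ v, g (t v) = t (g v)) (v : V) : v ∈ fx t ↔ g v ∈ fx t := by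
  rw [mem_fx, mem_fx, ← h, g.injective.eq_iff]

theorem exists_dat [Finite V] (hV : Nat.card V = 17 ^ 4) {N : Subgroup (V ≃ₗ[ZMod 17] V)} (H : Sym 2 2 N V)
    (hF : Full 2 N) (hz : Nat.card (Subgroup.center N) = 4) {t : V ≃ₗ[ZMod 17] V} (ht : t ∈ N) (ht2 : t * t = 1)
    (ht1 : t ≠ 1) (ht3 : ∃ v, t v ≠ -v) : ∃ x, Dat N t x := by
  have hT : (⟨t, ht⟩ : N) * ⟨t, ht⟩ = 1 := Subtype.ext ht2
  have hTc : (⟨t, ht⟩ : N) ∉ Subgroup.center N := by
    intro h
    obtain ⟨v, hv⟩ := ht3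
    exact hv (sym_neg H h (by rw [pow_two, hT]) (fun h => ht1 (congrArg Subtype.val h)) v)
  have hsgn : ∀ y z : N, y * z ≠ z * y → ∀ v, (y : V ≃ₗ[ZMod 17] V) ((z : V ≃ₗ[ZMod 17] V) v) =
      -((z : V ≃ₗ[ZMod 17] V) ((y : V ≃ₗ[ZMod 17] V) v)) := by
    intro y z h v
    have h1 := sym_neg H (H.comm y z) (H.comm_pow y z) (fun h' => h (commutatorElement_eq_one_iff_mul_comm.1 h'))
      ((z * y) • v)
    rw [smul_smul, commutatorElement_def] at h1
    have h2 : y * z * y⁻¹ * z⁻¹ * (z * y) = y * z := by group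
    rw [h2] at h1
    exact h1
  have hsq : ∀ v, t (t v) = v := fun v => congrArg (fun g : V ≃ₗ[ZMod 17] V => g v) ht2
  have hcard : Nat.card (fx t) = 17 ^ 2 := by
    obtain ⟨y, hy⟩ : ∃ y : N, y * ⟨t, ht⟩ ≠ ⟨t, ht⟩ * y := by
      by_contra hcon
      push Not at hcon
      exact hTc (Subgroup.mem_center_iff.2 hcon)
    have h1 := card_fx_anti hsq (hsgn y _ hy)
    rw [hV, show 17 ^ 4 = (17 ^ 2) ^ 2 from rfl] at h1
    exact Nat.pow_left_injective (n := 2) (by norm_num) h1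
  obtain ⟨x, hx1, hx2, hx3, hx4⟩ := exists_three H hF hz hT hTc
  have hcomm : ∀ k v, (x k : V ≃ₗ[ZMod 17] V) (t v) = t ((x k : V ≃ₗ[ZMod 17] V) v) := fun k v =>
    congrArg (fun g : N => (g : V ≃ₗ[ZMod 17] V) v) (hx1 k)
  have hxs : ∀ k v, (x k : V ≃ₗ[ZMod 17] V) ((x k : V ≃ₗ[ZMod 17] V) v) = v := fun k v =>
    congrArg (fun g : N => (g : V ≃ₗ[ZMod 17] V) v) (hx2 k)
  have hanti : ∀ j k, j ≠ k → ∀ v, (x j : V ≃ₗ[ZMod 17] V) ((x k : V ≃ₗ[ZMod 17] V) v) =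
      -((x k : V ≃ₗ[ZMod 17] V) ((x j : V ≃ₗ[ZMod 17] V) v)) := fun j k hjk => hsgn _ _ (hx3 j k hjk)
  -- central elements are scalars
  have hsc : ∀ z ∈ Subgroup.center N, ∃ c : ZMod 17, c ≠ 0 ∧ ∀ v, (z : V ≃ₗ[ZMod 17] V) v = c • v := by
    intro z hz
    have hzc : ∀ (y : N) (v : V), (z : V ≃ₗ[ZMod 17] V) ((y : V ≃ₗ[ZMod 17] V) v) =
        (y : V ≃ₗ[ZMod 17] V) ((z : V ≃ₗ[ZMod 17] V) v) := fun y v =>
      congrArg (fun g : N => (g : V ≃ₗ[ZMod 17] V) v) (Subgroup.mem_center_iff.1 hz y).symm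
    obtain ⟨c, hc⟩ := scalar2 (U := fx t) hcard (x := resEquiv (fx t) (x 0) (mem_iff_of_comm (hcomm 0)))
      (y := resEquiv (fx t) (x 1) (mem_iff_of_comm (hcomm 1))) (fun v => Subtype.ext (hxs 0 v))
      (fun v => Subtype.ext (hxs 1 v)) (fun v => Subtype.ext (hanti 0 1 (by decide) v))
      (resEquiv (fx t) z (mem_iff_of_comm (hzc ⟨t, ht⟩)) : fx t →ₗ[ZMod 17] fx t)
      (fun v => Subtype.ext (hzc _ v)) (fun v => Subtype.ext (hzc _ v))
    have hc' : ∀ v, t v = v → (z : V ≃ₗ[ZMod 17] V) v = c • v := fun v hv =>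
      congrArg Subtype.val (hc ⟨v, mem_fx.2 hv⟩)
    obtain ⟨y, hy⟩ : ∃ y : N, y * ⟨t, ht⟩ ≠ ⟨t, ht⟩ * y := by
      by_contra hcon
      push Not at hcon
      exact hTc (Subgroup.mem_center_iff.2 hcon)
    have h2 : ∀ v, (z : V ≃ₗ[ZMod 17] V) v = c • v := by
      intro v
      have h3 := hc' ((9 : ZMod 17) • (v + t v)) (by rw [map_smul, map_add, hsq, add_comm])
      have h4 := hc' ((y : V ≃ₗ[ZMod 17] V) ((9 : ZMod 17) • (v - t v))) (by
        rw [← neg_eq_iff_eq_neg.2 (hsgn y _ hy _), map_smul, map_sub, hsq, ← map_neg, ← smul_neg, neg_sub])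
      rw [hzc, ← map_smul] at h4
      have h5 := (y : V ≃ₗ[ZMod 17] V).injective h4
      have hv : v = (9 : ZMod 17) • (v + t v) + (9 : ZMod 17) • (v - t v) := by
        rw [← smul_add, add_add_sub_cancel, smul_add, half_two]
      rw [hv, map_add, h3, h5, ← smul_add]
    refine ⟨c, ?_, h2⟩
    rintro rfl
    have := H.nt
    obtain ⟨v, hv⟩ := exists_ne (0 : V)
    have h3 := h2 v
    rw [zero_smul] at h3
    exact hv ((z : V ≃ₗ[ZMod 17] V).map_eq_zero_iff.1 h3)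
  refine ⟨fun k => x k, fun k => (x k).2, hcomm, hsq, hxs, hanti, ?_, ?_, hcard⟩
  · intro y hy hyt
    obtain ⟨z, hz, h⟩ := hx4 ⟨y, hy⟩ (Subtype.ext (LinearEquiv.ext hyt))
    obtain ⟨c, hc, hc'⟩ := hsc z hz
    refine ⟨c, hc, ?_⟩
    rcases h with h | h | ⟨k, h⟩ | ⟨k, h⟩
    · refine Or.inl fun v => ?_
      rw [← hc']
      exact congrArg (fun g : N => (g : V ≃ₗ[ZMod 17] V) v) h
    · refine Or.inr (Or.inl fun v => ?_)
      rw [← map_smul, ← hc']
      exact congrArg (fun g : N => (g : V ≃ₗ[ZMod 17] V) v) h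
    · refine Or.inr (Or.inr (Or.inl ⟨k, fun v => ?_⟩))
      rw [← map_smul, ← hc']
      exact congrArg (fun g : N => (g : V ≃ₗ[ZMod 17] V) v) h
    · refine Or.inr (Or.inr (Or.inr ⟨k, fun v => ?_⟩))
      rw [← map_smul, ← map_smul, ← hc']
      exact congrArg (fun g : N => (g : V ≃ₗ[ZMod 17] V) v) h
  · intro y hy z hz
    by_cases h : (⟨y, hy⟩ : N) * ⟨z, hz⟩ = ⟨z, hz⟩ * ⟨y, hy⟩
    · exact Or.inl fun v => congrArg (fun g : N => (g : V ≃ₗ[ZMod 17] V) v) h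
    · exact Or.inr (hsgn _ _ h)

section rel

variable {N : Subgroup (V ≃ₗ[ZMod 17] V)} {t : V ≃ₗ[ZMod 17] V} {x : Fin 3 → (V ≃ₗ[ZMod 17] V)}

theorem Dat.not_comm [Nontrivial V] (D : Dat N t x) {j k : Fin 3} (hjk : j ≠ k)
    (h : ∀ v, x j (x k v) = x k (x j v)) : False := by
  obtain ⟨v, hv⟩ := exists_ne (0 : V)
  have h1 := D.anti j k hjk v
  rw [h] at h1
  have h2 := eq_zero_of_neg h1
  exact hv ((x j).map_eq_zero_iff.1 ((x k).map_eq_zero_iff.1 h2))

/-- `y` is a multiple of `x j` or of `x j t` -/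
def Lin (t : V ≃ₗ[ZMod 17] V) (x : Fin 3 → (V ≃ₗ[ZMod 17] V)) (y : V ≃ₗ[ZMod 17] V) (j : Fin 3) : Prop :=
  ∃ c : ZMod 17, c ≠ 0 ∧ ((∀ v, y v = c • x j v) ∨ ∀ v, y v = c • x j (t v))

theorem Lin.uniq [Nontrivial V] (D : Dat N t x) {y : V ≃ₗ[ZMod 17] V} {j k : Fin 3} (hj : Lin t x y j)
    (hk : Lin t x y k) : j = k := by
  by_contra hjk
  obtain ⟨c, hc, h1⟩ := hj
  obtain ⟨d, hd, h2⟩ := hk
  refine D.not_comm hjk fun v => ?_
  have h3 : (∀ w, x j w = (c⁻¹ * d) • x k w) ∨ (∀ w, x j w = (c⁻¹ * d) • x k (t w)) := by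
    rcases h1 with h1 | h1 <;> rcases h2 with h2 | h2
    · left; intro w
      rw [mul_smul, ← h2, h1, smul_smul, inv_mul_cancel₀ hc, one_smul]
    · right; intro w
      rw [mul_smul, ← h2, h1, smul_smul, inv_mul_cancel₀ hc, one_smul]
    · right; intro w
      rw [mul_smul, ← h2, h1, smul_smul, inv_mul_cancel₀ hc, one_smul, D.tsq]
    · left; intro w
      have h4 : y (t w) = d • x k w := by rw [h2, D.tsq]
      rw [mul_smul, ← h4, h1, smul_smul, inv_mul_cancel₀ hc, one_smul, D.tsq]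
  rcases h3 with h3 | h3
  · rw [h3, h3, map_smul]
  · rw [h3, h3, map_smul, ← D.comm]

/-- conjugation -/
theorem Lin.conj (D : Dat N t x) {g y : V ≃ₗ[ZMod 17] V}
    (hg : (∀ v, g (t v) = t (g v)) ∨ (∀ v, g (t v) = -(t (g v)))) {j l : Fin 3} (hy : Lin t x y j)
    (hl : Lin t x (g * x j * g⁻¹) l) : Lin t x (g * y * g⁻¹) l := by
  obtain ⟨c, hc, h1⟩ := hy
  obtain ⟨d, hd, h2⟩ := hl
  have hg' : ∃ e : ZMod 17, e ≠ 0 ∧ ∀ v, t (g⁻¹ v) = e • g⁻¹ (t v) := by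
    rcases hg with hg | hg
    · refine ⟨1, one_ne_zero, fun v => ?_⟩
      apply g.injective
      have h3 : g (g⁻¹ v) = v := g.apply_symm_apply v
      have h4 : g (g⁻¹ (t v)) = t v := g.apply_symm_apply _
      rw [hg, h3, one_smul, h4]
    · refine ⟨-1, neg_ne_zero.2 one_ne_zero, fun v => ?_⟩
      apply g.injective
      have h3 : g (g⁻¹ v) = v := g.apply_symm_apply v
      have h4 : g (g⁻¹ (t v)) = t v := g.apply_symm_apply _
      rw [hg, h3, neg_smul, one_smul, map_neg, h4]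
  obtain ⟨e, he, hg'⟩ := hg'
  rcases h1 with h1 | h1
  · refine ⟨c * d, mul_ne_zero hc hd, ?_⟩
    have h3 : ∀ v, (g * y * g⁻¹) v = c • (g * x j * g⁻¹) v := by
      intro v
      change g (y (g⁻¹ v)) = c • g (x j (g⁻¹ v))
      rw [h1, map_smul]
    rcases h2 with h2 | h2
    · left; intro v; rw [h3, h2, smul_smul]
    · right; intro v; rw [h3, h2, smul_smul]
  · refine ⟨c * e * d, mul_ne_zero (mul_ne_zero hc he) hd, ?_⟩
    have h3 : ∀ v, (g * y * g⁻¹) v = (c * e) • (g * x j * g⁻¹) (t v) := by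
      intro v
      change g (y (g⁻¹ v)) = (c * e) • g (x j (g⁻¹ (t v)))
      rw [h1, map_smul, hg', map_smul, map_smul, smul_smul]
    rcases h2 with h2 | h2
    · right; intro v; rw [h3, h2, smul_smul]
    · left; intro v; rw [h3, h2, smul_smul, D.tsq]

variable {G : Subgroup (V ≃ₗ[ZMod 17] V)}

theorem Dat.img [Nontrivial V] (D : Dat N t x) (hn : ∀ g ∈ G, ∀ y ∈ N, g * y * g⁻¹ ∈ N) {g : V ≃ₗ[ZMod 17] V}
    (hg : g ∈ Lst G t) (k : Fin 3) : ∃ j, Lin t x (g * x k * g⁻¹) j := by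
  obtain ⟨hgG, hg⟩ := hg
  have hga : ∀ v, g (g⁻¹ v) = v := g.apply_symm_apply
  have hgb : ∀ v, g⁻¹ (g v) = v := g.symm_apply_apply
  obtain ⟨l, hlk, -⟩ := exists_third k k
  have hy : ∀ v, (g * x k * g⁻¹) (t v) = t ((g * x k * g⁻¹) v) := by
    intro v
    change g (x k (g⁻¹ (t v))) = t (g (x k (g⁻¹ v)))
    obtain ⟨w, rfl⟩ : ∃ w, v = g w := ⟨g⁻¹ v, (hga v).symm⟩
    rcases hg with hg | hg
    · rw [← hg, hgb, hgb, D.comm, hg]
    · have h1 : t (g w) = -g (t w) := by rw [hg, neg_neg]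
      rw [h1, map_neg, hgb, hgb, map_neg, D.comm, map_neg, hg, neg_neg]
  obtain ⟨c, hc, h⟩ := D.cen _ (hn g hgG _ (D.mem k)) hy
  have h1 : ∀ w, (g * x k * g⁻¹) (g w) = g (x k w) := by
    intro w
    change g (x k (g⁻¹ (g w))) = g (x k w)
    rw [hgb]
  rcases h with h | h | ⟨j, h⟩ | ⟨j, h⟩
  · exfalso
    have h2 : ∀ w, x k w = c • w := by
      intro w
      apply g.injective
      rw [← h1, h, map_smul]
    exact D.not_comm hlk fun v => by rw [h2, h2, map_smul]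
  · exfalso
    have h2 : ∃ e : ZMod 17, ∀ w, x k w = e • t w := by
      rcases hg with hg | hg
      · refine ⟨c, fun w => ?_⟩
        apply g.injective
        rw [← h1, h, map_smul, hg]
      · refine ⟨-c, fun w => ?_⟩
        apply g.injective
        rw [← h1, h, map_smul, hg, neg_smul, smul_neg, neg_neg]
    obtain ⟨e, h2⟩ := h2
    exact D.not_comm hlk fun v => by rw [h2, h2, map_smul, D.comm]
  · exact ⟨j, c, hc, Or.inl h⟩
  · exact ⟨j, c, hc, Or.inr h⟩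

/-- the stabiliser of `± t` as a subgroup -/
def LS (G : Subgroup (V ≃ₗ[ZMod 17] V)) (t : V ≃ₗ[ZMod 17] V) : Subgroup (V ≃ₗ[ZMod 17] V) where
  carrier := Lst G t
  one_mem' := ⟨G.one_mem, Or.inl fun v => rfl⟩
  mul_mem' := by
    rintro a b ⟨ha, ha'⟩ ⟨hb, hb'⟩
    refine ⟨G.mul_mem ha hb, ?_⟩
    rcases ha' with ha' | ha' <;> rcases hb' with hb' | hb'
    · left; intro v; change a (b (t v)) = t (a (b v)); rw [hb', ha']
    · right; intro v; change a (b (t v)) = -t (a (b v)); rw [hb', map_neg, ha']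
    · right; intro v; change a (b (t v)) = -t (a (b v)); rw [hb', ha']
    · left; intro v; change a (b (t v)) = t (a (b v)); rw [hb', map_neg, ha', neg_neg]
  inv_mem' := by
    rintro a ⟨ha, ha'⟩
    refine ⟨G.inv_mem ha, ?_⟩
    have hga : ∀ v, a (a⁻¹ v) = v := a.apply_symm_apply
    rcases ha' with ha' | ha'
    · left; intro v; apply a.injective; rw [hga, ha', hga]
    · right; intro v; apply a.injective; rw [hga, map_neg, ha', hga, neg_neg]

theorem mem_LS {g : V ≃ₗ[ZMod 17] V} : g ∈ LS G t ↔ g ∈ Lst G t := Iff.rfl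

theorem Dat.exists_hom [Nontrivial V] (D : Dat N t x) (hn : ∀ g ∈ G, ∀ y ∈ N, g * y * g⁻¹ ∈ N) :
    ∃ φ : LS G t →* Perm (Fin 3), ∀ g : LS G t, ∀ k, Lin t x (g * x k * (g : V ≃ₗ[ZMod 17] V)⁻¹) (φ g k) := by
  refine HT.exists_hom (H := LS G t) (K := Perm (Fin 3)) (fun g π => ∀ k,
    Lin t x (g * x k * (g : V ≃ₗ[ZMod 17] V)⁻¹) (π k)) ?_ ?_ ?_
  · intro g
    choose f hf using fun k => D.img hn g.2 k
    have hinj : Function.Injective f := by
      intro j k hjk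
      by_contra hne
      refine D.not_comm hne fun v => ?_
      obtain ⟨c, hc, h1⟩ := hf j
      obtain ⟨d, hd, h2⟩ := hf k
      rw [← hjk] at h2
      -- `g x_j g⁻¹` and `g x_k g⁻¹` commute
      have h3 : ∀ w, ((g : V ≃ₗ[ZMod 17] V) * x j * (g : V ≃ₗ[ZMod 17] V)⁻¹)
          (((g : V ≃ₗ[ZMod 17] V) * x k * (g : V ≃ₗ[ZMod 17] V)⁻¹) w) =
          ((g : V ≃ₗ[ZMod 17] V) * x k * (g : V ≃ₗ[ZMod 17] V)⁻¹)
          (((g : V ≃ₗ[ZMod 17] V) * x j * (g : V ≃ₗ[ZMod 17] V)⁻¹) w) := by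
        intro w
        rcases h1 with h1 | h1 <;> rcases h2 with h2 | h2
        · rw [h1, h2, h2, h1, map_smul, map_smul, smul_comm]
        · rw [h1, h2, h2, h1, map_smul, map_smul, map_smul, D.comm, smul_comm]
        · rw [h1, h2, h2, h1, map_smul, map_smul, map_smul, D.comm, smul_comm, D.comm, D.comm]
        · rw [h1, h2, h2, h1, map_smul, map_smul, map_smul, map_smul, D.comm, smul_comm]
      have h4 := h3 ((g : V ≃ₗ[ZMod 17] V) v)
      have hgb : ∀ v, (g : V ≃ₗ[ZMod 17] V)⁻¹ ((g : V ≃ₗ[ZMod 17] V) v) = v :=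
        (g : V ≃ₗ[ZMod 17] V).symm_apply_apply
      change (g : V ≃ₗ[ZMod 17] V) (x j ((g : V ≃ₗ[ZMod 17] V)⁻¹ ((g : V ≃ₗ[ZMod 17] V) (x k
        ((g : V ≃ₗ[ZMod 17] V)⁻¹ ((g : V ≃ₗ[ZMod 17] V) v)))))) = (g : V ≃ₗ[ZMod 17] V) (x k
        ((g : V ≃ₗ[ZMod 17] V)⁻¹ ((g : V ≃ₗ[ZMod 17] V) (x j
        ((g : V ≃ₗ[ZMod 17] V)⁻¹ ((g : V ≃ₗ[ZMod 17] V) v)))))) at h4
      rw [hgb, hgb, hgb] at h4
      exact (g : V ≃ₗ[ZMod 17] V).injective h4
    exact ⟨Equiv.ofBijective f (Finite.injective_iff_bijective.1 hinj), hf⟩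
  · intro g π ρ h1 h2
    ext k
    rw [(h1 k).uniq D (h2 k)]
  · intro a b π ρ ha hb k
    have h1 := (hb k).conj D a.2.2 (ha (ρ k))
    have h2 : (a : V ≃ₗ[ZMod 17] V) * ((b : V ≃ₗ[ZMod 17] V) * x k * (b : V ≃ₗ[ZMod 17] V)⁻¹) *
        (a : V ≃ₗ[ZMod 17] V)⁻¹ = ((a * b : LS G t) : V ≃ₗ[ZMod 17] V) * x k *
        ((a * b : LS G t) : V ≃ₗ[ZMod 17] V)⁻¹ := by
      rw [Subgroup.coe_mul, mul_inv_rev]
      simp only [mul_assoc]
    rw [h2] at h1
    exact h1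

theorem Dat.ker [Nontrivial V] (D : Dat N t x) {φ : LS G t →* Perm (Fin 3)}
    (hφ : ∀ g : LS G t, ∀ k, Lin t x (g * x k * (g : V ≃ₗ[ZMod 17] V)⁻¹) (φ g k)) :
    Nat.card (Kst G N t) = Nat.card φ.ker := by
  have key : ∀ g : LS G t, φ g = 1 ↔ (g : V ≃ₗ[ZMod 17] V) ∈ Kst G N t := by
    intro g
    constructor
    · intro h
      refine ⟨g.2, fun y hy hyt => ?_⟩
      have h1 : ∀ k, Lin t x (g * x k * (g : V ≃ₗ[ZMod 17] V)⁻¹) k := fun k => by
        have := hφ g k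
        rwa [h] at this
      have hg := g.2.2
      have hg' : ∃ e : ZMod 17, e ≠ 0 ∧ ∀ v, t ((g : V ≃ₗ[ZMod 17] V)⁻¹ v) = e • (g : V ≃ₗ[ZMod 17] V)⁻¹ (t v) := by
        rcases hg with hg | hg
        · refine ⟨1, one_ne_zero, fun v => ?_⟩
          apply (g : V ≃ₗ[ZMod 17] V).injective
          have h3 : (g : V ≃ₗ[ZMod 17] V) ((g : V ≃ₗ[ZMod 17] V)⁻¹ v) = v := (g : V ≃ₗ[ZMod 17] V).apply_symm_apply v
          have h4 : (g : V ≃ₗ[ZMod 17] V) ((g : V ≃ₗ[ZMod 17] V)⁻¹ (t v)) = t v :=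
            (g : V ≃ₗ[ZMod 17] V).apply_symm_apply _
          rw [hg, h3, one_smul, h4]
        · refine ⟨-1, neg_ne_zero.2 one_ne_zero, fun v => ?_⟩
          apply (g : V ≃ₗ[ZMod 17] V).injective
          have h3 : (g : V ≃ₗ[ZMod 17] V) ((g : V ≃ₗ[ZMod 17] V)⁻¹ v) = v := (g : V ≃ₗ[ZMod 17] V).apply_symm_apply v
          have h4 : (g : V ≃ₗ[ZMod 17] V) ((g : V ≃ₗ[ZMod 17] V)⁻¹ (t v)) = t v :=
            (g : V ≃ₗ[ZMod 17] V).apply_symm_apply _
          rw [hg, h3, neg_smul, one_smul, map_neg, h4]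
      obtain ⟨e, he, hg'⟩ := hg'
      have hga : ∀ v, (g : V ≃ₗ[ZMod 17] V) ((g : V ≃ₗ[ZMod 17] V)⁻¹ v) = v := (g : V ≃ₗ[ZMod 17] V).apply_symm_apply
      have hc : ∀ (z : V ≃ₗ[ZMod 17] V) (v : V), ((g : V ≃ₗ[ZMod 17] V) * z * (g : V ≃ₗ[ZMod 17] V)⁻¹) v =
        (g : V ≃ₗ[ZMod 17] V) (z ((g : V ≃ₗ[ZMod 17] V)⁻¹ v)) := fun _ _ => rfl
      obtain ⟨c, hc0, h2 | h2 | ⟨k, h2⟩ | ⟨k, h2⟩⟩ := D.cen y hy hyt
      · refine ⟨1, Or.inl fun v => ?_⟩
        rw [hc, h2, map_smul, hga, one_smul, h2]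
      · refine ⟨e, Or.inl fun v => ?_⟩
        rw [hc, h2, hg', map_smul, map_smul, hga, h2, smul_comm]
      · obtain ⟨d, hd, h3 | h3⟩ := h1 k
        · refine ⟨d, Or.inl fun v => ?_⟩
          rw [hc, h2, map_smul, ← hc, h3, h2, smul_comm]
        · refine ⟨d, Or.inr fun v => ?_⟩
          rw [hc, h2, map_smul, ← hc, h3, h2, smul_comm]
      · obtain ⟨d, hd, h3 | h3⟩ := h1 k
        · refine ⟨e * d, Or.inl fun v => ?_⟩
          rw [hc, h2, hg', map_smul, map_smul, map_smul, ← hc, h3, h2, smul_smul, smul_smul, smul_smul]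
          congr 1; ring
        · refine ⟨e * d, Or.inr fun v => ?_⟩
          rw [hc, h2, hg', map_smul, map_smul, map_smul, ← hc, h3, h2, smul_smul, smul_smul, smul_smul]
          congr 1; ring
    · rintro ⟨-, h⟩
      ext k
      have h1 : Lin t x (g * x k * (g : V ≃ₗ[ZMod 17] V)⁻¹) k := by
        obtain ⟨c, hc⟩ := h (x k) (D.mem k) (D.comm k)
        refine ⟨c, ?_, hc⟩
        rintro rfl
        obtain ⟨v, hv⟩ := exists_ne (0 : V)
        have h2 : ((g : V ≃ₗ[ZMod 17] V) * x k * (g : V ≃ₗ[ZMod 17] V)⁻¹) v = 0 := by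
          rcases hc with hc | hc
          · rw [hc, zero_smul]
          · rw [hc, zero_smul]
        exact hv ((LinearEquiv.map_eq_zero_iff _).1 h2)
      rw [(hφ g k).uniq D h1]
      rfl
  refine Nat.card_congr ⟨fun g => ⟨⟨g.1, g.2.1⟩, (key _).2 g.2⟩, fun g => ⟨g.1.1, (key _).1 g.2⟩, fun g => rfl,
    fun g => rfl⟩

section final

variable [Finite V]

/-- the restriction of `x k` to the fixed space of `t` -/
def rX (D : Dat N t x) (k : Fin 3) : fx t ≃ₗ[ZMod 17] fx t := resEquiv (fx t) (x k) (mem_iff_of_comm (D.comm k))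

theorem rX_apply (D : Dat N t x) (k : Fin 3) (v : fx t) : ((rX D k v : fx t) : V) = x k v := rfl

theorem tri (D : Dat N t x) : Tri (rX D) where
  sq k v := Subtype.ext (D.sq k v)
  anti j k hjk v := Subtype.ext (D.anti j k hjk v)

theorem exists_gen (D : Dat N t x) : ∃ v : fx t, Gen (rX D) v := by
  have hnt : Nontrivial (fx t) := by
    rw [← Finite.one_lt_card_iff_nontrivial, D.card]; norm_num
  obtain ⟨s, hs⟩ := (tri D).refl (j := 0) (k := 1) (by decide)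
  obtain ⟨v, hv0, hv⟩ := (tri D).refl_fixed (j := 0) (k := 1) (by decide) hs
  exact ⟨v, (tri D).refl_gen hs hv0 hv⟩

theorem of_gen (D : Dat N t x) {v : fx t} (hv : Gen (rX D) v) (ht : t ∈ N) {n : V ≃ₗ[ZMod 17] V} (hn : n ∈ N)
    (hnv : n v = v) : n = 1 ∨ n = t := by
  have hv0 : (v : V) ≠ 0 := fun h => hv.1 (Subtype.ext h)
  have htv : t v = v := mem_fx.1 v.2
  have h1 : ∀ w, n (t w) = t (n w) := by
    rcases D.sgn n hn t ht with h | h
    · exact h
    · exfalso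
      have h2 := h v
      rw [htv, hnv, htv] at h2
      exact hv0 (eq_zero_of_neg h2)
  have h3 : ∀ c : ZMod 17, c • (v : V) = v → c = 1 := by
    intro c hc
    have h4 : (c - 1) • (v : V) = 0 := by rw [sub_smul, hc, one_smul, sub_self]
    rcases smul_eq_zero.1 h4 with h5 | h5
    · exact sub_eq_zero.1 h5
    · exact absurd h5 hv0
  obtain ⟨c, hc, h | h | ⟨k, h⟩ | ⟨k, h⟩⟩ := D.cen n hn h1
  · left
    have h4 := h3 c (by rw [← h, hnv])
    exact LinearEquiv.ext fun w => by rw [h, h4, one_smul]; rfl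
  · right
    have h4 := h3 c (by
      have := h v
      rw [htv, hnv] at this
      exact this.symm)
    exact LinearEquiv.ext fun w => by rw [h, h4, one_smul]
  · exact (hv.not_smul (tri D) (k := k) (c := c) (Subtype.ext (by
      have := h v
      rw [hnv] at this
      exact this.symm))).elim
  · exact (hv.not_smul (tri D) (k := k) (c := c) (Subtype.ext (by
      have := h v
      rw [hnv, htv] at this
      exact this.symm))).elim

theorem comm_of_conj {g : V ≃ₗ[ZMod 17] V} (h : g * t * g⁻¹ = t) (v : V) : g (t v) = t (g v) := by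
  have h1 : g * t = t * g := mul_inv_eq_iff_eq_mul.1 h
  exact congrArg (fun y : V ≃ₗ[ZMod 17] V => y v) h1

theorem conj_ne_one (ht1 : t ≠ 1) (g : V ≃ₗ[ZMod 17] V) : g * t * g⁻¹ ≠ 1 := by
  intro h
  apply ht1
  have h1 : g * t = 1 * g := mul_inv_eq_iff_eq_mul.1 h
  rw [one_mul] at h1
  exact mul_eq_left.1 h1

theorem comm_of_stb (D : Dat N t x) (ht : t ∈ N) (ht1 : t ≠ 1) (hn : ∀ g ∈ G, ∀ y ∈ N, g * y * g⁻¹ ∈ N)
    {g : V ≃ₗ[ZMod 17] V} (hg : g ∈ stb G (fx t)) : ∀ v, g (t v) = t (g v) := by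
  obtain ⟨v, hv⟩ := exists_gen D
  have h1 : (g * t * g⁻¹) v = v := by
    have h2 : g⁻¹ (v : V) ∈ fx t := ((stb G (fx t)).inv_mem hg).2 v |>.1 v.2
    change g (t (g⁻¹ v)) = v
    rw [mem_fx.1 h2]
    exact g.apply_symm_apply _
  exact comm_of_conj ((of_gen D hv ht (hn g hg.1 t ht) h1).resolve_left (conj_ne_one ht1 g))

theorem comm_of_fix (D : Dat N t x) (ht : t ∈ N) (ht1 : t ≠ 1) (hn : ∀ g ∈ G, ∀ y ∈ N, g * y * g⁻¹ ∈ N)
    {g : V ≃ₗ[ZMod 17] V} (hg : g ∈ G) {v : fx t} (hv : Gen (rX D) v) (hgv : g v = v) :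
    ∀ v, g (t v) = t (g v) := by
  have h1 : (g * t * g⁻¹) v = v := by
    have h2 : g⁻¹ (v : V) = v := by
      apply g.injective
      rw [hgv]
      exact g.apply_symm_apply _
    change g (t (g⁻¹ v)) = v
    rw [h2, mem_fx.1 v.2, hgv]
  exact comm_of_conj ((of_gen D hv ht (hn g hg t ht) h1).resolve_left (conj_ne_one ht1 g))

theorem card_R (G : Subgroup (V ≃ₗ[ZMod 17] V)) (t : V ≃ₗ[ZMod 17] V) :
    Nat.card (res G (fx t)).ker = Nat.card (Rst G t) := by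
  refine Nat.card_congr ⟨fun g => ⟨g.1.1, g.1.2.1, fun v hv => ?_⟩, fun g => ⟨⟨g.1, g.2.1, fun v => ?_⟩, ?_⟩, fun g => rfl,
    fun g => rfl⟩
  · have h1 : res G (fx t) g.1 ⟨v, mem_fx.2 hv⟩ = ⟨v, mem_fx.2 hv⟩ := by
      rw [MonoidHom.mem_ker.1 g.2]; rfl
    exact congrArg Subtype.val h1
  · constructor
    · intro hv
      rw [g.2.2 v (mem_fx.1 hv)]
      exact hv
    · intro hv
      have h1 := g.2.2 _ (mem_fx.1 hv)
      rw [← g.1.injective h1]
      exact hv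
  · exact LinearEquiv.ext fun v => Subtype.ext (g.2.2 v (mem_fx.1 v.2))

theorem lin_res (_ : Dat N t x) {b : V ≃ₗ[ZMod 17] V} (hb : ∀ v, b (t v) = t (b v)) {k j : Fin 3}
    (h : Lin t x (b * x k * b⁻¹) j) : ∃ c : ZMod 17, c ≠ 0 ∧ ∀ v, t v = v → b (x k v) = c • x j (b v) := by
  obtain ⟨c, hc, h⟩ := h
  refine ⟨c, hc, fun v hv => ?_⟩
  have h1 : (b * x k * b⁻¹) (b v) = b (x k v) := by
    change b (x k (b⁻¹ (b v))) = b (x k v)
    rw [show b⁻¹ (b v) = v from b.symm_apply_apply v]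
  rcases h with h | h
  · rw [← h1, h]
  · rw [← h1, h, ← hb, hv]

theorem exists_special (D : Dat N t x) : ∃ u : V, u ≠ 0 ∧ t u = u ∧ x 0 u = u := by
  have hnt : Nontrivial (fx t) := by
    rw [← Finite.one_lt_card_iff_nontrivial, D.card]; norm_num
  obtain ⟨w, hw⟩ := exists_ne (0 : fx t)
  have hw0 : (w : V) ≠ 0 := fun h => hw (Subtype.ext h)
  have hwt : t w = w := mem_fx.1 w.2
  by_cases h1 : (w : V) + x 0 w = 0
  · refine ⟨x 1 w, fun h => hw0 ((x 1).map_eq_zero_iff.1 h), ?_, ?_⟩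
    · rw [← D.comm, hwt]
    · rw [D.anti 0 1 (by decide), ← map_neg, ← eq_neg_of_add_eq_zero_left h1]
  · exact ⟨(w : V) + x 0 w, h1, by rw [map_add, ← D.comm, hwt], by rw [map_add, D.sq, add_comm]⟩

theorem two_le (D : Dat N t x) (hNG : N ≤ G) {h : ℕ} (hh : Half G h) : 2 * Nat.card (Rst G t) ≤ h := by
  have hnt : Nontrivial (fx t) := by
    rw [← Finite.one_lt_card_iff_nontrivial, D.card]; norm_num
  obtain ⟨u, hu0, htu, hxu⟩ := exists_special D
  rw [← hh u hu0]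
  let f : Rst G t ⊕ Rst G t → MulAction.stabilizer G u := Sum.elim
    (fun r => ⟨⟨r.1, r.2.1⟩, r.2.2 u htu⟩)
    (fun r => ⟨⟨x 0 * r.1, G.mul_mem (hNG (D.mem 0)) r.2.1⟩, by
      change x 0 (r.1 u) = u
      rw [r.2.2 u htu, hxu]⟩)
  have hf : Function.Injective f := by
    have key : ∀ r r' : Rst G t, r.1 ≠ x 0 * r'.1 := by
      intro r r' h
      have h1 : ∀ v : fx t, rX D 0 v = (1 : ZMod 17) • v := by
        intro v
        have hv : t v = v := mem_fx.1 v.2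
        refine Subtype.ext ?_
        rw [rX_apply, one_smul]
        have h2 : r.1 (v : V) = x 0 (r'.1 v) := by rw [h]; rfl
        rw [r.2.2 v hv, r'.2.2 v hv] at h2
        exact h2.symm
      obtain ⟨v, hv⟩ := exists_ne (0 : fx t)
      have h2 := (tri D).anti 1 0 (by decide) v
      rw [h1, h1, map_smul] at h2
      rw [one_smul] at h2
      exact hv ((rX D 1).map_eq_zero_iff.1 (eq_zero_of_neg h2))
    rintro (r | r) (r' | r') h
    · exact congrArg Sum.inl (Subtype.ext (congrArg (fun g : MulAction.stabilizer G u => (g.1 : V ≃ₗ[ZMod 17] V)) h))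
    · exact (key r r' (congrArg (fun g : MulAction.stabilizer G u => (g.1 : V ≃ₗ[ZMod 17] V)) h)).elim
    · exact (key r' r (congrArg (fun g : MulAction.stabilizer G u => (g.1 : V ≃ₗ[ZMod 17] V)) h.symm)).elim
    · have h1 : x 0 * r.1 = x 0 * r'.1 := congrArg (fun g : MulAction.stabilizer G u => (g.1 : V ≃ₗ[ZMod 17] V)) h
      exact congrArg Sum.inr (Subtype.ext (mul_left_cancel h1))
  have := Nat.card_le_card_of_injective f hf
  rw [Nat.card_sum] at this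
  omega

end final

end rel

/-- **task D1** -/
theorem beta_one [Finite V] (hV : Nat.card V = 17 ^ 4) {G N : Subgroup (V ≃ₗ[ZMod 17] V)} (hN : N ≤ G)
    (hn : ∀ g ∈ G, ∀ x ∈ N, g * x * g⁻¹ ∈ N) (hG : ¬ 17 ∣ Nat.card G) {h m : ℕ} (hh : Half G h) (h2 : 2 ≤ h)
    (hm : m * h = Nat.card G) (hm' : m = 320 ∨ m = 960) (H : Sym 2 2 N V) (hF : Full 2 N)
    (hz : Nat.card (Subgroup.center N) = 4) {t : V ≃ₗ[ZMod 17] V} (ht : t ∈ N) (ht2 : t * t = 1) (ht1 : t ≠ 1)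
    (ht3 : ∃ v, t v ≠ -v) :
    h = 2 * Nat.card (Rst G t) ∧ Nat.card (Lst G t) = 6 * Nat.card (Kst G N t) := by
  have hnt := H.nt
  obtain ⟨x, D⟩ := exists_dat hV H hF hz ht ht2 ht1 ht3
  have hntU : Nontrivial (fx t) := by
    rw [← Finite.one_lt_card_iff_nontrivial, D.card]; norm_num
  obtain ⟨φ, hφ⟩ := D.exists_hom hn
  -- the group induced on the fixed space of `t`
  have hLS : ∀ b : stb G (fx t), (b : V ≃ₗ[ZMod 17] V) ∈ LS G t := fun b =>
    ⟨b.2.1, Or.inl (comm_of_stb D ht ht1 hn b.2)⟩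
  have hrel : ∀ (b : stb G (fx t)) (k : Fin 3), ∃ c : ZMod 17, c ≠ 0 ∧ ∀ v : fx t,
      res G (fx t) b (rX D k v) = c • rX D (φ ⟨b, hLS b⟩ k) (res G (fx t) b v) := by
    intro b k
    obtain ⟨c, hc, h1⟩ := lin_res D (comm_of_stb D ht ht1 hn b.2) (hφ ⟨b, hLS b⟩ k)
    exact ⟨c, hc, fun v => Subtype.ext (h1 v (mem_fx.1 v.2))⟩
  have hP : rs G (fx t) ≤ Nm (rX D) := by
    rintro _ ⟨b, rfl⟩
    exact ⟨φ ⟨b, hLS b⟩, hrel b⟩
  have hst : ∀ v : fx t, Gen (rX D) v → Nat.card (Rst G t) *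
      Nat.card (MulAction.stabilizer (rs G (fx t)) v) = h := by
    intro v hv
    rw [← card_R, card_ker_mul v (fun g hg hgv => mem_iff_of_comm (comm_of_fix D ht ht1 hn hg hv hgv))]
    exact hh v (fun h => hv.1 (Subtype.ext h))
  have hle : ∀ v : fx t, Gen (rX D) v → Nat.card (MulAction.stabilizer (rs G (fx t)) v) ≤ 2 := by
    intro v hv
    refine le_trans ?_ ((tri D).stab_le D.card hv)
    refine Nat.card_le_card_of_injective (fun g => (⟨⟨g.1.1, hP g.1.2⟩, g.2⟩ : MulAction.stabilizer (Nm (rX D)) v)) ?_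
    intro a b hab
    exact Subtype.ext (Subtype.ext (congrArg (fun g : MulAction.stabilizer (Nm (rX D)) v =>
      (g.1 : fx t ≃ₗ[ZMod 17] fx t)) hab))
  have hge := two_le D hN hh
  have hR0 : 0 < Nat.card (Rst G t) := by
    rw [← card_R]; exact Nat.card_pos
  have hs2 : ∀ v : fx t, Gen (rX D) v → Nat.card (MulAction.stabilizer (rs G (fx t)) v) = 2 := by
    intro v hv
    refine le_antisymm (hle v hv) ?_
    have h3 := hst v hv
    rw [← h3, mul_comm 2] at hge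
    exact Nat.le_of_mul_le_mul_left hge hR0
  refine ⟨?_, ?_⟩
  · obtain ⟨v, hv⟩ := exists_gen D
    rw [← hst v hv, hs2 v hv, mul_comm]
  -- `φ` is onto
  have htop : φ.range = ⊤ := by
    rw [eq_top_iff, ← Perm.closure_isSwap, Subgroup.closure_le]
    rintro σ ⟨j, k, hjk, rfl⟩
    obtain ⟨s, hs, hs'⟩ := (tri D).core D.card hP (fun v hv => by
      have h3 : 1 < Nat.card (MulAction.stabilizer (rs G (fx t)) v) := by rw [hs2 v hv]; norm_num
      have := Finite.one_lt_card_iff_nontrivial.1 h3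
      obtain ⟨g, hg⟩ := exists_ne (1 : MulAction.stabilizer (rs G (fx t)) v)
      exact ⟨g.1.1, g.1.2, g.2, fun h => hg (Subtype.ext (Subtype.ext h))⟩) hjk
    obtain ⟨b, rfl⟩ := hs
    refine ⟨⟨b, hLS b⟩, ?_⟩
    ext l
    congr 1
    by_contra hne
    obtain ⟨c, hc, h3⟩ := hrel b l
    obtain ⟨d, hd, h4⟩ := hs' l
    refine (tri D).not_prop hne (c := c⁻¹ * d) (fun w => ?_)
    have h5 := h3 ((res G (fx t) b).symm w)
    rw [h4, LinearEquiv.apply_symm_apply] at h5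
    rw [mul_smul, h5, smul_smul, inv_mul_cancel₀ hc, one_smul]
  have h3 := Subgroup.card_mul_index φ.ker
  rw [Subgroup.index_ker, htop, Nat.card_congr Subgroup.topEquiv.toEquiv,
    show Nat.card (Perm (Fin 3)) = 6 by simp [Nat.card_eq_fintype_card, Fintype.card_perm]; rfl, ← D.ker hφ] at h3
  change Nat.card (LS G t) = _
  rw [← h3, mul_comm]


end Cfsg.Agent.H137.HT
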