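import Cfsg.Agent.H662.HT.Frame
import Cfsg.Agent.H828.HT.Basic

/-!
# Three anticommuting involutions of a plane over `ZMod 17` (S3540 / S3577, TEAM HT-E, task D1; helper137)
-/

set_option autoImplicit false

namespace Cfsg.Agent.H137.HT

open Cfsg.Agent.H828.HT Cfsg.Agent.H662.HT Equiv

universe u

theorem exists_hom {H K : Type*} [Group H] [Group K] (r : H → K → Prop) (ex : ∀ g, ∃ k, r g k)
    (un : ∀ g k k', r g k → r g k' → k = k') (mul : ∀ g h k l, r g k → r h l → r (g * h) (k * l)) :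
    ∃ φ : H →* K, ∀ g, r g (φ g) :=
  ⟨MonoidHom.mk' (fun g => (ex g).choose) (fun a b => un _ _ _ (ex (a * b)).choose_spec
    (mul _ _ _ _ (ex a).choose_spec (ex b).choose_spec)), fun g => (ex g).choose_spec⟩

theorem exists_third : ∀ j k : Fin 3, ∃ l : Fin 3, l ≠ j ∧ l ≠ k := by decide

theorem three_ne : (3 : ZMod 17) ≠ 0 := by decide

theorem six_sq : (6 : ZMod 17) * 6 = 2 := by decide

theorem thr_sq : (3 : ZMod 17) * 3 * 2 = 1 := by decide

theorem gen_num : ∀ e : ZMod 17, e = 1 ∨ e = -1 → (6 - e) * (6 - e) ≠ 1 := by decide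

section plane

variable {U : Type u} [AddCommGroup U] [Fact (Nat.Prime 17)] [Module (ZMod 17) U]

theorem half_two (v : U) : (9 : ZMod 17) • v + (9 : ZMod 17) • v = v := by
  rw [← add_smul, show (9 : ZMod 17) + 9 = 1 from rfl, one_smul]

theorem eq_zero_of_neg {v : U} (h : v = -v) : v = 0 := by
  have h1 : v + v = 0 := by nth_rw 2 [h]; exact add_neg_cancel v
  rw [← half_two v, ← smul_add, h1, smul_zero]

theorem sq_eq_one {c : ZMod 17} (h : c * c = 1) : c = 1 ∨ c = -1 := mul_self_eq_one_iff.1 h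

theorem card_fx_anti [Finite U] {y n : U ≃ₗ[ZMod 17] U} (hy : ∀ v, y (y v) = v)
    (hn : ∀ v, n (y v) = -(y (n v))) : Nat.card (fx y) ^ 2 = Nat.card U := by
  have h1 := card_cm_mul y
  have h2 : (fx y).map (n : U →ₗ[ZMod 17] U) = cm y := by
    ext w
    constructor
    · rintro ⟨v, hv, rfl⟩
      have hv : y v = v := mem_fx.1 hv
      refine mem_cm.2 ⟨(8 : ZMod 17) • n v, ?_⟩
      have h3 : y (n v) = -n v := by rw [← neg_eq_iff_eq_neg, ← hn, hv]
      rw [map_smul, h3]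
      change _ = (8 : ZMod 17) • n v + n v
      rw [smul_neg, ← neg_smul]
      nth_rw 3 [← one_smul (ZMod 17) (n v)]
      rw [← add_smul]
      rfl
    · intro hw
      obtain ⟨u, hu⟩ := mem_cm.1 hw
      have hw' : y w = -w := by
        have : w = y u - u := by rw [hu]; abel
        rw [this, map_sub, hy]; abel
      refine ⟨n.symm w, mem_fx.2 ?_, n.apply_symm_apply w⟩
      apply n.injective
      rw [hn, n.apply_symm_apply, hw', neg_neg]
  have h3 : Nat.card (cm y) = Nat.card (fx y) := by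
    rw [← h2]
    exact (Nat.card_congr (n.submoduleMap (fx y)).toEquiv).symm
  rw [h3] at h1
  rw [sq, h1]

/-- three pairwise anticommuting involutions -/
structure Tri (X : Fin 3 → (U ≃ₗ[ZMod 17] U)) : Prop where
  sq : ∀ k v, X k (X k v) = v
  anti : ∀ j k, j ≠ k → ∀ v, X j (X k v) = -(X k (X j v))

/-- the commutant of two anticommuting involutions of a plane -/
theorem scalar2 [Finite U] (hU : Nat.card U = 17 ^ 2) {x y : U ≃ₗ[ZMod 17] U} (hx : ∀ v, x (x v) = v)
    (hy : ∀ v, y (y v) = v) (hxy : ∀ v, x (y v) = -(y (x v))) (A : U →ₗ[ZMod 17] U) (h1 : ∀ v, A (x v) = x (A v))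
    (h2 : ∀ v, A (y v) = y (A v)) : ∃ c : ZMod 17, ∀ v, A v = c • v := by
  have h3 : Nat.card (fx x) = 17 := by
    have := card_fx_anti (n := y) hx (fun v => by rw [hxy, neg_neg])
    rw [hU] at this
    exact Nat.pow_left_injective (n := 2) (by norm_num) this
  have h4 : Module.finrank (ZMod 17) (fx x) = 1 := by
    have h5 := card_eq_pow (p := 17) (fx x)
    rw [h3] at h5
    exact (Nat.pow_right_injective (le_refl 2 |>.trans (by norm_num : 2 ≤ 17)) (by simpa using h5)).symm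
  obtain ⟨w, hw0, hw⟩ := finrank_eq_one_iff'.1 h4
  have hwx : x w = w := mem_fx.1 w.2
  have h6 : ∀ v, x v = v → ∃ c : ZMod 17, v = c • (w : U) := by
    intro v hv
    obtain ⟨c, hc⟩ := hw ⟨v, mem_fx.2 hv⟩
    exact ⟨c, (congrArg Subtype.val hc).symm⟩
  obtain ⟨c, hc⟩ := h6 (A w) (by rw [← h1, hwx])
  refine ⟨c, fun v => ?_⟩
  obtain ⟨a, ha⟩ := h6 ((9 : ZMod 17) • (v + x v)) (by rw [map_smul, map_add, hx, add_comm])
  obtain ⟨b, hb⟩ := h6 (y ((9 : ZMod 17) • (v - x v))) (by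
    rw [hxy, map_smul, map_sub, hx, ← map_neg, ← smul_neg, neg_sub])
  have hb' : (9 : ZMod 17) • (v - x v) = b • y w := by
    rw [← hy ((9 : ZMod 17) • (v - x v)), hb, map_smul]
  have hv : v = a • (w : U) + b • y w := by
    rw [← ha, ← hb', ← smul_add, add_add_sub_cancel, smul_add, half_two]
  rw [hv, map_add, map_smul, map_smul, h2, hc, smul_add, map_smul, smul_comm a c, smul_comm b c]

variable {X : Fin 3 → (U ≃ₗ[ZMod 17] U)}

theorem Tri.not_prop (hX : Tri X) [Nontrivial U] {j k : Fin 3} (hjk : j ≠ k) {c : ZMod 17}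
    (h : ∀ v, X j v = c • X k v) : False := by
  obtain ⟨v, hv⟩ := exists_ne (0 : U)
  have h1 := hX.anti j k hjk v
  rw [h, h v, map_smul, ← h, h] at h1
  have h2 := eq_zero_of_neg h1
  have h3 : c = 0 ∨ X k (X k v) = 0 := smul_eq_zero.1 h2
  rcases h3 with h3 | h3
  · have h4 := h v
    rw [h3, zero_smul] at h4
    exact hv ((X j).map_eq_zero_iff.1 h4)
  · rw [hX.sq] at h3
    exact hv h3

/-- the normaliser of the three lines spanned by the `X k` -/
def Nm (X : Fin 3 → (U ≃ₗ[ZMod 17] U)) : Subgroup (U ≃ₗ[ZMod 17] U) where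
  carrier := {g | ∃ π : Perm (Fin 3), ∀ k, ∃ c : ZMod 17, c ≠ 0 ∧ ∀ v, g (X k v) = c • X (π k) (g v)}
  one_mem' := ⟨1, fun k => ⟨1, one_ne_zero, fun v => by rw [one_smul]; rfl⟩⟩
  mul_mem' := by
    rintro a b ⟨π, ha⟩ ⟨ρ, hb⟩
    refine ⟨π * ρ, fun k => ?_⟩
    obtain ⟨c, hc, h1⟩ := hb k
    obtain ⟨d, hd, h2⟩ := ha (ρ k)
    refine ⟨c * d, mul_ne_zero hc hd, fun v => ?_⟩
    change a (b (X k v)) = (c * d) • X (π (ρ k)) (a (b v))
    rw [h1, map_smul, h2, smul_smul]
  inv_mem' := by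
    rintro a ⟨π, ha⟩
    refine ⟨π⁻¹, fun k => ?_⟩
    obtain ⟨c, hc, h1⟩ := ha (π⁻¹ k)
    refine ⟨c⁻¹, inv_ne_zero hc, fun v => ?_⟩
    have h2 := h1 (a.symm v)
    rw [show π (π⁻¹ k) = k from π.apply_symm_apply k, a.apply_symm_apply] at h2
    change a.symm (X k v) = c⁻¹ • X (π⁻¹ k) (a.symm v)
    rw [LinearEquiv.symm_apply_eq, map_smul, h2, smul_smul, inv_mul_cancel₀ hc, one_smul]

theorem mem_Nm {g : U ≃ₗ[ZMod 17] U} : g ∈ Nm X ↔ ∃ π : Perm (Fin 3), ∀ k, ∃ c : ZMod 17, c ≠ 0 ∧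
    ∀ v, g (X k v) = c • X (π k) (g v) := Iff.rfl

theorem Tri.exists_hom (hX : Tri X) [Nontrivial U] : ∃ φ : Nm X →* Perm (Fin 3), ∀ g : Nm X, ∀ k,
    ∃ c : ZMod 17, c ≠ 0 ∧ ∀ v, (g : U ≃ₗ[ZMod 17] U) (X k v) = c • X (φ g k) ((g : U ≃ₗ[ZMod 17] U) v) := by
  refine HT.exists_hom (H := Nm X) (K := Perm (Fin 3)) (fun g π => ∀ k, ∃ c : ZMod 17, c ≠ 0 ∧
    ∀ v, (g : U ≃ₗ[ZMod 17] U) (X k v) = c • X (π k) ((g : U ≃ₗ[ZMod 17] U) v)) (fun g => g.2) ?_ ?_
  · intro g π ρ h1 h2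
    ext k
    by_contra hne
    obtain ⟨c, hc, h1⟩ := h1 k
    obtain ⟨d, hd, h2⟩ := h2 k
    refine hX.not_prop (j := π k) (k := ρ k) (fun h => hne (by rw [h])) (c := c⁻¹ * d) (fun v => ?_)
    have h3 := h1 ((g : U ≃ₗ[ZMod 17] U).symm v)
    rw [h2, LinearEquiv.apply_symm_apply] at h3
    rw [mul_smul, h3, smul_smul, inv_mul_cancel₀ hc, one_smul]
  · intro a b π ρ ha hb k
    obtain ⟨c, hc, h1⟩ := hb k
    obtain ⟨d, hd, h2⟩ := ha (ρ k)
    refine ⟨c * d, mul_ne_zero hc hd, fun v => ?_⟩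
    change (a : U ≃ₗ[ZMod 17] U) ((b : U ≃ₗ[ZMod 17] U) (X k v)) = (c * d) • X (π (ρ k)) _
    rw [h1, map_smul, h2, smul_smul]
    rfl

/-- an element normalising each line is a multiple of `1` or of some `X j` -/
theorem Tri.of_diag [Finite U] (hU : Nat.card U = 17 ^ 2) (hX : Tri X) {g : U ≃ₗ[ZMod 17] U}
    (hg : ∀ k, ∃ c : ZMod 17, ∀ v, g (X k v) = c • X k (g v)) :
    (∃ c : ZMod 17, ∀ v, g v = c • v) ∨ ∃ j, ∃ c : ZMod 17, ∀ v, g v = c • X j v := by
  have hnt : Nontrivial U := by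
    rw [← Finite.one_lt_card_iff_nontrivial, hU]; norm_num
  have key : ∀ k, (∀ v, g (X k v) = X k (g v)) ∨ (∀ v, g (X k v) = -X k (g v)) := by
    intro k
    obtain ⟨c, hc⟩ := hg k
    have h1 : c * c = 1 := by
      obtain ⟨v, hv⟩ := exists_ne (0 : U)
      have h2 := hc (X k v)
      rw [hX.sq, hc, map_smul, smul_smul, hX.sq] at h2
      have h3 : (c * c - 1) • g v = 0 := by rw [sub_smul, ← h2, one_smul, sub_self]
      rcases smul_eq_zero.1 h3 with h4 | h4
      · exact sub_eq_zero.1 h4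
      · exact absurd (g.map_eq_zero_iff.1 h4) hv
    rcases sq_eq_one h1 with rfl | rfl
    · exact Or.inl fun v => by rw [hc, one_smul]
    · exact Or.inr fun v => by rw [hc, neg_smul, one_smul]
  have sc : ∀ A : U ≃ₗ[ZMod 17] U, (∀ v, A (X 0 v) = X 0 (A v)) → (∀ v, A (X 1 v) = X 1 (A v)) →
      ∃ c : ZMod 17, ∀ v, A v = c • v := fun A h1 h2 =>
    scalar2 hU (hX.sq 0) (hX.sq 1) (hX.anti 0 1 (by decide)) (A : U →ₗ[ZMod 17] U) h1 h2
  have sc2 : ∀ j, (∀ v, X j (g (X 0 v)) = X 0 (X j (g v))) → (∀ v, X j (g (X 1 v)) = X 1 (X j (g v))) →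
      ∃ j, ∃ c : ZMod 17, ∀ v, g v = c • X j v := by
    intro j h1 h2
    obtain ⟨c, hc⟩ := sc (X j * g) h1 h2
    refine ⟨j, c, fun v => ?_⟩
    have h3 : X j (g v) = c • v := hc v
    rw [← map_smul, ← h3, hX.sq]
  rcases key 0 with h0 | h0 <;> rcases key 1 with h1 | h1
  · exact Or.inl (sc g h0 h1)
  · exact Or.inr (sc2 0 (fun v => by rw [h0]) (fun v => by rw [h1, map_neg, hX.anti 0 1 (by decide), neg_neg]))
  · exact Or.inr (sc2 1 (fun v => by rw [h0, map_neg, hX.anti 1 0 (by decide), neg_neg]) (fun v => by rw [h1]))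
  · exact Or.inr (sc2 2 (fun v => by rw [h0, map_neg, hX.anti 2 0 (by decide), neg_neg])
      (fun v => by rw [h1, map_neg, hX.anti 2 1 (by decide), neg_neg]))

/-- a vector which is not an eigenvector of any `X k` -/
def Gen (X : Fin 3 → (U ≃ₗ[ZMod 17] U)) (v : U) : Prop := v ≠ 0 ∧ ∀ k, X k v ≠ v ∧ X k v ≠ -v

theorem Gen.not_smul (hX : Tri X) {v : U} (hv : Gen X v) {k : Fin 3} {c : ZMod 17} (h : c • X k v = v) : False := by
  have h1 : c * c = 1 := by
    have h2 : X k v = c • v := by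
      nth_rw 2 [← hX.sq k v]
      rw [← map_smul, h]
    have h3 : (c * c - 1) • v = 0 := by rw [sub_smul, mul_smul, ← h2, h, one_smul, sub_self]
    rcases smul_eq_zero.1 h3 with h4 | h4
    · exact sub_eq_zero.1 h4
    · exact absurd h4 hv.1
  rcases sq_eq_one h1 with rfl | rfl
  · rw [one_smul] at h
    exact (hv.2 k).1 h
  · rw [neg_smul, one_smul, neg_eq_iff_eq_neg] at h
    exact (hv.2 k).2 h

/-- no element of order three fixes a vector -/
theorem no_three [Finite U] (hU : Nat.card U = 17 ^ 2) {g : U ≃ₗ[ZMod 17] U} (h3 : ∀ v, g (g (g v)) = v) {v : U}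
    (hv0 : v ≠ 0) (hv : g v = v) (u : U) : g u = u := by
  have h1 : Module.finrank (ZMod 17) U = 2 := by
    have h5 := card_eq_pow (p := 17) U
    rw [hU] at h5
    exact (Nat.pow_right_injective (by norm_num : 2 ≤ 17) h5).symm
  have h2 : Module.finrank (ZMod 17) (cm g) + Module.finrank (ZMod 17) (fx g) = 2 := by
    rw [← h1]
    exact LinearMap.finrank_range_add_finrank_ker _
  have h4 : 0 < Module.finrank (ZMod 17) (fx g) :=
    Module.finrank_pos_iff_exists_ne_zero.2 ⟨⟨v, mem_fx.2 hv⟩, fun h => hv0 (congrArg Subtype.val h)⟩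
  obtain ⟨w, hw⟩ := finrank_le_one_iff.1 (show Module.finrank (ZMod 17) (cm g) ≤ 1 by omega)
  have hw' : ∀ u, ∃ c : ZMod 17, g u = u + c • (w : U) := by
    intro u
    obtain ⟨c, hc⟩ := hw ⟨g u - u, mem_cm.2 ⟨u, by abel⟩⟩
    refine ⟨c, ?_⟩
    rw [show c • (w : U) = g u - u from congrArg Subtype.val hc]
    abel
  have hgw : g w = w := by
    obtain ⟨d, hd⟩ := hw' w
    by_cases hw0 : (w : U) = 0
    · rw [hw0, map_zero]
    have h5 : g (w : U) = (1 + d) • (w : U) := by rw [hd, add_smul, one_smul]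
    have h6 := h3 w
    rw [h5, map_smul, h5, map_smul, map_smul, h5, smul_smul, smul_smul] at h6
    have h7 : ((1 + d) * ((1 + d) * (1 + d)) - 1) • (w : U) = 0 := by
      rw [sub_smul, ← mul_assoc, h6, one_smul, sub_self]
    rcases smul_eq_zero.1 h7 with h8 | h8
    · have h9 : (1 + d) ^ 3 = 1 := by linear_combination h8
      have h10 : (1 + d) ^ 16 = 1 := ZMod.pow_card_sub_one_eq_one (by
        intro h0; rw [h0] at h9; norm_num at h9)
      have h11 : 1 + d = 1 := by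
        calc 1 + d = ((1 + d) ^ 3) ^ 5 * (1 + d) := by rw [h9]; ring
          _ = (1 + d) ^ 16 := by ring
          _ = 1 := h10
      rw [h5, h11, one_smul]
    · exact absurd h8 hw0
  obtain ⟨c, hc⟩ := hw' u
  have h5 := h3 u
  rw [hc, map_add, map_smul, hgw, hc, map_add, map_add, map_smul, hgw, hc] at h5
  have h6 : (3 * c) • (w : U) = 0 := by
    have h7 : u + c • (w : U) + c • (w : U) + c • (w : U) - u = (3 * c) • (w : U) := by module
    rw [← h7, h5, sub_self]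
  rw [mul_smul] at h6
  have h8 : c • (w : U) = 0 := by
    rcases smul_eq_zero.1 h6 with h9 | h9
    · exact absurd h9 three_ne
    · exact h9
  rw [hc, h8, add_zero]

/-- a generic vector has a stabiliser of order at most two in the normaliser of the frame -/
theorem Tri.stab_le [Finite U] (hU : Nat.card U = 17 ^ 2) (hX : Tri X) {v : U} (hv : Gen X v) :
    Nat.card (MulAction.stabilizer (Nm X) v) ≤ 2 := by
  have hnt : Nontrivial U := by
    rw [← Finite.one_lt_card_iff_nontrivial, hU]; norm_num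
  obtain ⟨φ, hφ⟩ := hX.exists_hom
  let ψ : MulAction.stabilizer (Nm X) v →* Perm (Fin 3) := φ.comp (MulAction.stabilizer (Nm X) v).subtype
  have hψ : Function.Injective ψ := by
    rw [injective_iff_map_eq_one]
    intro g hg
    have hg' : φ g = 1 := hg
    have hgv : (g.1 : U ≃ₗ[ZMod 17] U) v = v := g.2
    have h1 : ∀ k, ∃ c : ZMod 17, ∀ v, (g.1 : U ≃ₗ[ZMod 17] U) (X k v) = c • X k ((g.1 : U ≃ₗ[ZMod 17] U) v) := by
      intro k
      obtain ⟨c, -, hc⟩ := hφ g k
      rw [hg'] at hc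
      exact ⟨c, hc⟩
    rcases hX.of_diag hU h1 with ⟨c, hc⟩ | ⟨j, c, hc⟩
    · have h2 : (c - 1) • v = 0 := by rw [sub_smul, ← hc, hgv, one_smul, sub_self]
      rcases smul_eq_zero.1 h2 with h3 | h3
      · refine Subtype.ext (Subtype.ext (LinearEquiv.ext fun u => ?_))
        rw [hc, sub_eq_zero.1 h3, one_smul]
        rfl
      · exact absurd h3 hv.1
    · exact (hv.not_smul hX (by rw [← hc, hgv])).elim
  have h3 : ¬ 3 ∣ Nat.card (MulAction.stabilizer (Nm X) v) := by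
    intro h
    have := Fact.mk (show Nat.Prime 3 by norm_num)
    obtain ⟨g, hg⟩ := exists_prime_orderOf_dvd_card' 3 h
    have h4 : g * (g * g) = 1 := by
      rw [← pow_two, ← pow_succ']
      have := pow_orderOf_eq_one g
      rwa [hg] at this
    have h5 : ∀ u, (g.1 : U ≃ₗ[ZMod 17] U) ((g.1 : U ≃ₗ[ZMod 17] U) ((g.1 : U ≃ₗ[ZMod 17] U) u)) = u := by
      intro u
      exact congrArg (fun x : MulAction.stabilizer (Nm X) v => (x.1 : U ≃ₗ[ZMod 17] U) u) h4
    have h6 : g = 1 := Subtype.ext (Subtype.ext (LinearEquiv.ext fun u => no_three hU h5 hv.1 g.2 u))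
    rw [h6, orderOf_one] at hg
    omega
  have h4 : Nat.card (MulAction.stabilizer (Nm X) v) ∣ 6 := by
    have := Subgroup.card_dvd_of_injective ψ hψ
    rwa [show Nat.card (Perm (Fin 3)) = 6 by simp [Nat.card_eq_fintype_card, Fintype.card_perm]; rfl] at this
  have h5 : Nat.card (MulAction.stabilizer (Nm X) v) ≤ 6 := Nat.le_of_dvd (by norm_num) h4
  generalize Nat.card (MulAction.stabilizer (Nm X) v) = n at *
  interval_cases n <;> omega

/-- the reflection interchanging `X j` and `X k` -/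
theorem Tri.refl (hX : Tri X) {j k : Fin 3} (hjk : j ≠ k) : ∃ s : U ≃ₗ[ZMod 17] U, ∀ v, s v = (3 : ZMod 17) • (X j v + X k v) := by
  refine ⟨LinearEquiv.ofInvolutive ((3 : ZMod 17) • ((X j : U →ₗ[ZMod 17] U) + (X k : U →ₗ[ZMod 17] U))) ?_, fun v => rfl⟩
  intro v
  change (3 : ZMod 17) • (X j ((3 : ZMod 17) • (X j v + X k v)) + X k ((3 : ZMod 17) • (X j v + X k v))) = v
  rw [map_smul, map_smul, map_add, map_add, hX.sq, hX.sq, hX.anti j k hjk, ← smul_add, smul_smul]
  have h1 : v + -(X k) ((X j) v) + ((X k) ((X j) v) + v) = (2 : ZMod 17) • v := by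
    rw [two_smul]; abel
  rw [h1, smul_smul, show (3 : ZMod 17) * 3 * 2 = 1 from thr_sq, one_smul]

/-- the three anticommutation rules of the reflection -/
theorem Tri.refl_mem (hX : Tri X) {j k : Fin 3} {s : U ≃ₗ[ZMod 17] U}
    (hs : ∀ v, s v = (3 : ZMod 17) • (X j v + X k v)) (l : Fin 3) :
    ∃ c : ZMod 17, c ≠ 0 ∧ ∀ v, s (X l v) = c • X (swap j k l) (s v) := by
  by_cases h1 : l = j
  · subst h1
    refine ⟨1, one_ne_zero, fun v => ?_⟩
    rw [swap_apply_left, one_smul, hs, hs, map_smul, map_add, hX.sq, hX.sq, add_comm]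
  by_cases h2 : l = k
  · subst h2
    refine ⟨1, one_ne_zero, fun v => ?_⟩
    rw [swap_apply_right, one_smul, hs, hs, map_smul, map_add, hX.sq, hX.sq, add_comm]
  refine ⟨-1, neg_ne_zero.2 one_ne_zero, fun v => ?_⟩
  rw [swap_apply_of_ne_of_ne h1 h2, hs, hs, map_smul, map_add, hX.anti j l (Ne.symm h1), hX.anti k l (Ne.symm h2),
    neg_smul, one_smul, ← neg_add, smul_neg]

/-- the fixed vectors of the reflection are generic -/
theorem Tri.refl_gen (hX : Tri X) {j k : Fin 3} {s : U ≃ₗ[ZMod 17] U}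
    (hs : ∀ v, s v = (3 : ZMod 17) • (X j v + X k v)) {v : U} (hv0 : v ≠ 0) (hv : s v = v) : Gen X v := by
  have key : ∀ l, ∀ e : ZMod 17, (e = 1 ∨ e = -1) → X l v = e • v → False := by
    intro l e he hl
    have aux : ∀ a b : Fin 3, (∀ v, s v = (3 : ZMod 17) • (X a v + X b v)) → X a v = e • v → False := by
      intro a b hs' ha
      have h1 : X b v = (6 - e) • v := by
        have h2 := hs' v
        rw [hv, ha] at h2
        have h3 : (6 : ZMod 17) • v = e • v + X b v := by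
          nth_rw 1 [h2]
          rw [smul_smul, show (6 : ZMod 17) * 3 = 1 from rfl, one_smul]
        rw [sub_smul, h3]
        abel
      have h2 := hX.sq b v
      rw [h1, map_smul, h1, smul_smul] at h2
      have h3 : ((6 - e) * (6 - e) - 1) • v = 0 := by rw [sub_smul, h2, one_smul, sub_self]
      rcases smul_eq_zero.1 h3 with h4 | h4
      · exact gen_num e he (sub_eq_zero.1 h4)
      · exact hv0 h4
    by_cases h1 : l = j
    · exact aux j k hs (h1 ▸ hl)
    by_cases h2 : l = k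
    · exact aux k j (fun v => by rw [hs, add_comm]) (h2 ▸ hl)
    have h3 : s (X l v) = -X l (s v) := by
      rw [hs, hs, map_smul, map_add, hX.anti j l (Ne.symm h1), hX.anti k l (Ne.symm h2), ← neg_add, smul_neg]
    rw [hv, hl, map_smul, hv] at h3
    have h4 := eq_zero_of_neg h3
    rcases smul_eq_zero.1 h4 with h5 | h5
    · rcases he with rfl | rfl
      · exact one_ne_zero h5
      · exact one_ne_zero (neg_eq_zero.1 h5)
    · exact hv0 h5
  exact ⟨hv0, fun l => ⟨fun h => key l 1 (Or.inl rfl) (by rw [h, one_smul]),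
    fun h => key l (-1) (Or.inr rfl) (by rw [h, neg_smul, one_smul])⟩⟩

theorem Tri.refl_fixed (hX : Tri X) [Nontrivial U] {j k : Fin 3} (hjk : j ≠ k) {s : U ≃ₗ[ZMod 17] U}
    (hs : ∀ v, s v = (3 : ZMod 17) • (X j v + X k v)) : ∃ v : U, v ≠ 0 ∧ s v = v := by
  have h2 : ∀ v, s (s v) = v := by
    intro v
    rw [hs, hs, map_smul, map_smul, map_add, map_add, hX.sq, hX.sq, hX.anti j k hjk, ← smul_add, smul_smul]
    have h1 : v + -(X k) ((X j) v) + ((X k) ((X j) v) + v) = (2 : ZMod 17) • v := by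
      rw [two_smul]; abel
    rw [h1, smul_smul, show (3 : ZMod 17) * 3 * 2 = 1 from thr_sq, one_smul]
  obtain ⟨l, hlj, hlk⟩ := exists_third j k
  obtain ⟨u, hu⟩ := exists_ne (0 : U)
  by_cases h1 : u + s u = 0
  · refine ⟨X l u, fun h => hu ((X l).map_eq_zero_iff.1 h), ?_⟩
    have h3 : s (X l u) = -X l (s u) := by
      rw [hs, hs, map_smul, map_add, hX.anti j l (Ne.symm hlj), hX.anti k l (Ne.symm hlk), ← neg_add, smul_neg]
    rw [h3, ← map_neg, ← eq_neg_of_add_eq_zero_left h1]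
  · exact ⟨u + s u, h1, by rw [map_add, h2, add_comm]⟩

/-- **core**: a group normalising the frame in which every generic vector is fixed by a non-trivial element
contains the reflections -/
theorem Tri.core [Finite U] (hU : Nat.card U = 17 ^ 2) (hX : Tri X) {P : Subgroup (U ≃ₗ[ZMod 17] U)} (hP : P ≤ Nm X)
    (h2 : ∀ v, Gen X v → ∃ g ∈ P, g v = v ∧ g ≠ 1) {j k : Fin 3} (hjk : j ≠ k) :
    ∃ s ∈ P, ∀ l, ∃ c : ZMod 17, c ≠ 0 ∧ ∀ v, s (X l v) = c • X (swap j k l) (s v) := by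
  have hnt : Nontrivial U := by
    rw [← Finite.one_lt_card_iff_nontrivial, hU]; norm_num
  obtain ⟨s, hs⟩ := hX.refl hjk
  obtain ⟨v, hv0, hv⟩ := hX.refl_fixed hjk hs
  have hg := hX.refl_gen hs hv0 hv
  have hsN : s ∈ Nm X := ⟨swap j k, hX.refl_mem hs⟩
  obtain ⟨g, hgP, hgv, hg1⟩ := h2 v hg
  have h3 := hX.stab_le hU hg
  have hs1 : s ≠ 1 := by
    rintro rfl
    obtain ⟨l, hlj, hlk⟩ := exists_third j k
    have h3 : (1 : U ≃ₗ[ZMod 17] U) (X l v) = -X l ((1 : U ≃ₗ[ZMod 17] U) v) := by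
      rw [hs, hs, map_smul, map_add, hX.anti j l (Ne.symm hlj), hX.anti k l (Ne.symm hlk), ← neg_add, smul_neg]
    exact hv0 ((X l).map_eq_zero_iff.1 (eq_zero_of_neg h3))
  have h4 : g = s := by
    by_contra hne
    let A : MulAction.stabilizer (Nm X) v := ⟨⟨g, hP hgP⟩, hgv⟩
    let B : MulAction.stabilizer (Nm X) v := ⟨⟨s, hsN⟩, hv⟩
    have hA : A ≠ 1 := fun h => hg1 (congrArg (fun x : MulAction.stabilizer (Nm X) v => (x.1 : U ≃ₗ[ZMod 17] U)) h)
    have hB : B ≠ 1 := fun h => hs1 (congrArg (fun x : MulAction.stabilizer (Nm X) v => (x.1 : U ≃ₗ[ZMod 17] U)) h)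
    have hAB : A ≠ B := fun h => hne (congrArg (fun x : MulAction.stabilizer (Nm X) v => (x.1 : U ≃ₗ[ZMod 17] U)) h)
    classical
    have := Fintype.ofFinite (MulAction.stabilizer (Nm X) v)
    rw [Nat.card_eq_fintype_card] at h3
    have h5 := Finset.card_le_univ ({A, B, 1} : Finset (MulAction.stabilizer (Nm X) v))
    rw [Finset.card_eq_three.2 ⟨A, B, 1, hAB, hA, hB, rfl⟩] at h5
    omega
  exact ⟨s, h4 ▸ hgP, hX.refl_mem hs⟩

end plane

end Cfsg.Agent.H137.HT
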